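import Groth.Agent.Lib.ExtPowX.Sheaf
import Groth.Agent.Lib.DetMod12.ExtCoh

/-!
# Exterior powers of quasi-coherent modules: sections on affine opens
-/

set_option autoImplicit false
set_option backward.isDefEq.respectTransparency false
set_option linter.style.haveILetI false

universe u

open CategoryTheory AlgebraicGeometry TopologicalSpace Opposite
open GrothLib.InvExt (mres)

noncomputable section

namespace GrothLib.ExtPowQc

open GrothLib GrothLib.ExtPowX

variable {X : Scheme.{u}} (E : X.Modules) [E.IsQuasicoherent] (k : ℕ)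

theorem exists_pow_smul_eq_zero {U : X.Opens} (hU : IsAffineOpen U) (g : Γ(X, U))
    (z : ↥(⋀[Γ(X, U)]^k Γ(E, U))) (hz : wRes E k (X.basicOpen_le g) z = 0) :
    ∃ N : ℕ, g ^ N • z = 0 := by
  letI : Algebra Γ(X, U) Γ(X, X.basicOpen g) := (X.presheaf.map (homOfLE (X.basicOpen_le g)).op).hom.toAlgebra
  haveI := hU.isLocalization_of_eq_basicOpen g (homOfLE (X.basicOpen_le g)) rfl
  letI : Module Γ(X, U) Γ(E, X.basicOpen g) := Module.compHom _ (algebraMap Γ(X, U) Γ(X, X.basicOpen g))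
  haveI : IsScalarTower Γ(X, U) Γ(X, X.basicOpen g) Γ(E, X.basicOpen g) :=
    IsScalarTower.of_algebraMap_smul fun _ _ => rfl
  let f : Γ(E, U) →ₗ[Γ(X, U)] Γ(E, X.basicOpen g) :=
    { toFun := mres E (X.basicOpen_le g)
      map_add' := map_add (E.presheaf.map (homOfLE (X.basicOpen_le g)).op).hom
      map_smul' := fun c x => Scheme.Modules.map_smul E _ c x }
  have hs := QCoh.smulLift_and_smulSep_of_isAffineOpen hU E g
  haveI : IsLocalizedModule (.powers g) f := by
    refine IsLocalizedModule.Away.mk_of_addCommGroup ?_ (fun y => ?_) (fun x hx => hs.2 x hx)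
    · have hu : IsUnit (algebraMap Γ(X, U) Γ(X, X.basicOpen g) g) := IsLocalization.Away.algebraMap_isUnit g
      rw [Module.End.isUnit_iff]
      constructor
      · intro a b hab
        exact hu.smul_left_cancel.1 hab
      · intro a
        obtain ⟨v, hv⟩ := hu
        exact ⟨(↑v⁻¹ : Γ(X, X.basicOpen g)) • a, by
          show algebraMap _ Γ(X, X.basicOpen g) g • _ = a
          rw [← hv, Module.End.one_apply, ← mul_smul, Units.mul_inv, one_smul]⟩
    · obtain ⟨N, x, hx⟩ := hs.1 y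
      exact ⟨N, x, by
        rw [← IsScalarTower.algebraMap_smul Γ(X, X.basicOpen g), map_pow]
        exact hx.symm⟩
  obtain ⟨⟨_, N, rfl⟩, hN⟩ := exists_smul_eq_zero_of_extMap_eq_zero (B := Γ(X, X.basicOpen g))
    (.powers g) f k (resL E (X.basicOpen_le g)) (fun _ => rfl) hz
  exact ⟨N, hN⟩

theorem injective_eta {U : X.Opens} (hU : IsAffineOpen U) : Function.Injective (eta E k U) := by
  refine (injective_iff_map_eq_zero _).2 fun z hz => ?_
  have key : ∀ p : U, ∃ g : Γ(X, U), p.1 ∈ X.basicOpen g ∧ ∃ N : ℕ, g ^ N • z = 0 := fun p => by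
    obtain ⟨V, hV, hpV, h0⟩ := eta_locInj E k (hz.trans (map_zero _).symm) p.1 p.2
    rw [map_zero] at h0
    obtain ⟨g, hle, hpg⟩ := hU.exists_basicOpen_le (V := V) ⟨p.1, hpV⟩ p.2
    refine ⟨g, hpg, exists_pow_smul_eq_zero E k hU g z ?_⟩
    rw [← wRes_wRes E k hV hle, h0, map_zero]
  choose g hpg N hN using key
  have hspan : Ideal.span (Set.range g) = ⊤ := by
    rw [← hU.self_le_iSup_basicOpen_iff (s := Set.range g)]
    intro p hp
    exact Opens.mem_iSup.2 ⟨⟨g ⟨p, hp⟩, _, rfl⟩, hpg ⟨p, hp⟩⟩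
  refine (Submodule.mem_bot Γ(X, U)).1 (Submodule.mem_of_span_eq_top_of_smul_pow_mem ⊥ _ hspan z ?_)
  rintro ⟨_, p, rfl⟩
  exact ⟨N p, (Submodule.mem_bot _).2 (hN p)⟩

theorem bijective_eta {U : X.Opens} (hU : IsAffineOpen U) : Function.Bijective (eta E k U) := by
  refine ⟨injective_eta E k hU, fun t => ?_⟩
  have key : ∀ p : U, ∃ g : Γ(X, U), p.1 ∈ X.basicOpen g ∧ ∃ x : ↥(⋀[Γ(X, X.basicOpen g)]^k Γ(E, X.basicOpen g)),
      eta E k _ x = mres (wedge E k) (X.basicOpen_le g) t := fun p => by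
    obtain ⟨V, hV, x, hpV, hx⟩ := eta_locSurj E k t p.1 p.2
    obtain ⟨g, hle, hpg⟩ := hU.exists_basicOpen_le (V := V) ⟨p.1, hpV⟩ p.2
    exact ⟨g, hpg, wRes E k hle x, by rw [← mres_eta, hx, InvExt.mres_mres]⟩
  choose g hpg x hx using key
  obtain ⟨s, hs⟩ := hU.isCompact.elim_finite_subcover (fun q : U => (X.basicOpen (g q) : Set X))
    (fun q => (X.basicOpen (g q)).2) (fun p hp => Set.mem_iUnion.2 ⟨⟨p, hp⟩, hpg ⟨p, hp⟩⟩)
  have hspan : Ideal.span (Set.range fun q : s => g q.1) = ⊤ := by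
    rw [← hU.self_le_iSup_basicOpen_iff]
    intro p hp
    obtain ⟨q, hq, hpq⟩ := Set.mem_iUnion₂.1 (hs hp)
    exact Opens.mem_iSup.2 ⟨⟨g q, ⟨q, hq⟩, rfl⟩, hpq⟩
  refine Submodule.mem_of_span_eq_top_of_smul_pow_mem (LinearMap.range (eta E k U)) _ hspan t fun ⟨_, p, hp⟩ => ?_
  subst hp
  obtain ⟨N, y, hy⟩ := exists_wRes_eq E k hU (g p.1) (x p.1)
  let w := g p.1 ^ N • t - eta E k U y
  have hw0 : mres (wedge E k) (X.basicOpen_le (g p.1)) w = 0 := by
    simp only [w, mres, map_sub, Scheme.Modules.map_smul, map_pow]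
    refine sub_eq_zero.2 ?_
    refine Eq.trans ?_ (mres_eta E k _ y).symm
    rw [hy, map_smul, hx]
  have keyw : ∀ q : s, ∃ M : ℕ,
      mres (wedge E k) (X.basicOpen_le (g q.1)) (g p.1 ^ M • w) = 0 := fun q => by
    let D := X.basicOpen (g q.1)
    let a : Γ(X, D) := X.presheaf.map (homOfLE (X.basicOpen_le (g q.1))).op (g p.1)
    let zq : ↥(⋀[Γ(X, D)]^k Γ(E, D)) := a ^ N • x q.1 - wRes E k (X.basicOpen_le (g q.1)) y
    have hzq : eta E k D zq = mres (wedge E k) (X.basicOpen_le (g q.1)) w := by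
      simp only [zq, w, mres, map_sub, map_smul, Scheme.Modules.map_smul, map_pow, a]
      rw [hx, ← mres_eta]

    have hD : IsAffineOpen D := hU.basicOpen _
    have hle : X.basicOpen a ≤ X.basicOpen (g p.1) := by
      simp only [a]
      rw [Scheme.basicOpen_res]
      exact inf_le_right
    have hz0 : wRes E k (X.basicOpen_le a) zq = 0 := by
      apply injective_eta E k (hD.basicOpen a)
      rw [← mres_eta, hzq, map_zero, InvExt.mres_mres, ← InvExt.mres_mres (wedge E k) (X.basicOpen_le (g p.1)) hle,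
        hw0]
      exact map_zero ((wedge E k).presheaf.map _).hom
    obtain ⟨M, hM⟩ := exists_pow_smul_eq_zero E k hD a zq hz0
    refine ⟨M, ?_⟩
    refine (Scheme.Modules.map_smul (wedge E k) _ _ w).trans ?_
    rw [map_pow]
    refine (congrArg (a ^ M • ·) hzq.symm).trans ?_
    rw [← map_smul, hM, map_zero]
  choose M hM using keyw
  let M₀ := Finset.univ.sup M
  have hw : g p.1 ^ M₀ • w = 0 := by
    refine Ample.meq_of_cover (wedge E k) (fun q : s => X.basicOpen (g q.1)) (fun q => X.basicOpen_le _)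
      (fun x hx => ?_) fun q => ?_
    · obtain ⟨q, hq, hpq⟩ := Set.mem_iUnion₂.1 (hs hx)
      exact Opens.mem_iSup.2 ⟨⟨q, hq⟩, hpq⟩
    · obtain ⟨e, he⟩ := Nat.exists_eq_add_of_le (Finset.le_sup (f := M) (Finset.mem_univ q))
      show _ = mres (wedge E k) (X.basicOpen_le (g q.1)) 0
      rw [show M₀ = M q + e from he, add_comm, pow_add, mul_smul]
      refine (Scheme.Modules.map_smul (wedge E k) _ _ _).trans ?_
      rw [show (wedge E k).presheaf.map _ (g p.1 ^ M q • w) = _ from hM q, smul_zero]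
      exact (map_zero ((wedge E k).presheaf.map _).hom).symm
  refine ⟨M₀ + N, g p.1 ^ M₀ • y, ?_⟩
  rw [map_smul, pow_add, mul_smul]
  simp only [w, smul_sub, sub_eq_zero] at hw
  exact hw.symm

theorem isExtPow_wedge : ExtPow.IsExtPow k E (wedge E k) := by
  let η : ∀ U : X.affineOpens, ↥(⋀[Γ(X, U.1)]^k Γ(E, U.1)) ≃ₗ[Γ(X, U.1)] Γ(wedge E k, U.1) := fun U =>
    LinearEquiv.ofBijective (eta E k U.1) (bijective_eta E k U.2)
  refine ⟨fun U => (η U).symm, fun U V h e => ?_⟩
  show mres (wedge E k) h (eta E k U.1 _) = eta E k V.1 _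
  exact (mres_eta E k h _).trans (congrArg _ (wRes_ιMulti E k h e))

end GrothLib.ExtPowQc
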