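import Groth.Agent.Lib.ExtPowQc.Affine
import Groth.Agent.Lib.ExtPowX.Pullback

/-!
# The exterior powers of the sheaf attached to a module
-/

set_option autoImplicit false
set_option backward.isDefEq.respectTransparency false
set_option linter.style.haveILetI false

universe u v w

open CategoryTheory AlgebraicGeometry TopologicalSpace Opposite
open GrothLib.InvExt (mres)

noncomputable section

namespace GrothLib.ExtPowQc

open GrothLib GrothLib.ExtPowX

section Alg

variable {A : Type u} [CommRing A] {B : Type u} [CommRing B] {g : A →+* B}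
variable {M : Type v} [AddCommGroup M] [Module A M] {M' : Type w} [AddCommGroup M'] [Module B M']

theorem extMap_bijective (k : ℕ) (ψ : M →ₛₗ[g] M') (hg : Function.Bijective g) (hψ : Function.Bijective ψ) :
    Function.Bijective (extMap k ψ) := by
  let e := RingEquiv.ofBijective g hg
  let f := Equiv.ofBijective ψ hψ
  have hg' : ∀ b, g (e.symm b) = b := e.apply_symm_apply
  let ψ' : M' →ₛₗ[e.symm.toRingHom] M :=
    { toFun := f.symm
      map_add' := fun x y => hψ.1 (by
        exact ((f.apply_symm_apply (x + y)).trans (congrArg₂ (· + ·) (f.apply_symm_apply x).symm (f.apply_symm_apply y).symm)).trans (map_add ψ _ _).symm)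
      map_smul' := fun c x => hψ.1 (by
        exact ((f.apply_symm_apply (c • x)).trans (congrArg₂ (· • ·) (hg' c).symm (f.apply_symm_apply x).symm)).trans (ψ.map_smulₛₗ _ _).symm) }
  refine Function.bijective_iff_has_inverse.2 ⟨extMap k ψ', fun z => ?_, fun z => ?_⟩
  · have hz : z ∈ Submodule.span A (Set.range (exteriorPower.ιMulti A k : (Fin k → M) → ⋀[A]^k M)) := by
      rw [exteriorPower.ιMulti_span]; exact Submodule.mem_top
    induction hz using Submodule.span_induction with
    | mem x hx =>
      obtain ⟨v, rfl⟩ := hx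
      rw [extMap_ιMulti, extMap_ιMulti]
      exact congrArg _ (funext fun i => f.symm_apply_apply (v i))
    | zero => simp
    | add x y _ _ hx hy => rw [map_add, map_add, hx, hy]
    | smul c x _ hx =>
      rw [map_smulₛₗ, map_smulₛₗ, hx]
      exact congrArg (· • x) (e.symm_apply_apply c)
  · have hz : z ∈ Submodule.span B (Set.range (exteriorPower.ιMulti B k : (Fin k → M') → ⋀[B]^k M')) := by
      rw [exteriorPower.ιMulti_span]; exact Submodule.mem_top
    induction hz using Submodule.span_induction with
    | mem x hx =>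
      obtain ⟨v, rfl⟩ := hx
      rw [extMap_ιMulti, extMap_ιMulti]
      exact congrArg _ (funext fun i => f.apply_symm_apply (v i))
    | zero => simp
    | add x y _ _ hx hy => rw [map_add, map_add, hx, hy]
    | smul c x _ hx =>
      rw [map_smulₛₗ, map_smulₛₗ, hx]
      exact congrArg (· • x) (hg' c)

end Alg

theorem isExtPow_tilde (A : CommRingCat.{u}) (M : ModuleCat.{u} A) (k : ℕ) :
    ExtPow.IsExtPow k (tilde M) (tilde (ModuleCat.of A ↥(⋀[A]^k M))) := by
  let E := tilde M
  let σ : A →+* Γ(Spec A, ⊤) := (Scheme.ΓSpecIso A).inv.hom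
  have hσ : Function.Bijective σ := ConcreteCategory.bijective_of_isIso (Scheme.ΓSpecIso A).inv
  let ψ : M →ₛₗ[σ] Γ(E, ⊤) :=
    { toFun := fun m => (tilde.toOpen M ⊤).hom m
      map_add' := fun x y => map_add (tilde.toOpen M ⊤).hom x y
      map_smul' := fun c x => by
        refine ((tilde.toOpen M ⊤).hom.map_smul c x).trans ?_
        exact congrArg (fun r : Γ(Spec A, ⊤) => r • (show Γ(E, ⊤) from (tilde.toOpen M ⊤).hom x)) (ConcreteCategory.congr_hom ((Spec A).presheaf.map_id (op ⊤)) (σ c)) }
  have hψ : Function.Bijective ψ := ConcreteCategory.bijective_of_isIso (tilde.toOpen M ⊤)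
  have hE := isExtPow_wedge E k
  haveI := DetMod12.isQuasicoherent_of_isExtPow hE
  let θ : ↥(⋀[A]^k M) →ₗ[A] ((modulesSpecToSheaf.obj (wedge E k)).presheaf.obj (op ⊤)) :=
    { toFun := fun z => eta E k ⊤ (extMap k ψ z)
      map_add' := fun x y => by rw [map_add, map_add]
      map_smul' := fun c x => by
        rw [map_smulₛₗ, map_smul, RingHom.id_apply]
        exact congrArg (· • _) (ConcreteCategory.congr_hom ((Spec A).presheaf.map_id (op ⊤)) (σ c)).symm }
  have hθ : Function.Bijective θ :=
    (bijective_eta E k (isAffineOpen_top _)).comp (extMap_bijective k ψ hσ hψ)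
  let iθ : ModuleCat.of A ↥(⋀[A]^k M) ≅ moduleSpecΓFunctor.obj (wedge E k) :=
    (LinearEquiv.ofBijective θ hθ).toModuleIso
  exact ExtPowX.isExtPow_of_iso hE
    (asIso (wedge E k).fromTildeΓ).symm |> fun h => ExtPowX.isExtPow_of_iso h ((tilde.functor A).mapIso iθ).symm

end GrothLib.ExtPowQc
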